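import Cfsg.Agent.H774.KGV.Odd
import Cfsg.Agent.H766.KGV.Unit

/-!
# The Hasse-Davenport product formula for odd primes from Stickelberger's theorem
-/

set_option autoImplicit false

namespace Cfsg.Agent.H774.KGV

open Finset Cfsg Cfsg.Agent.H644.KGV

theorem hdOddLocal (hS : H766.KGV.StickLight) : HDOddLocal := by
  intro K _ _ χ ρ ψ l hψ hl hl2 hρ M hM hp
  have hK : CharP K (ringChar K) := ringChar.charP K
  obtain ⟨x, y, -, hy, h⟩ := H766.KGV.nt3a2 (p := ringChar K) (M := M) hS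
    ⟨ringChar_prime, hM, hp⟩ (K := K) (χ := χ) (ρ := ρ) (ψ := ψ) hψ hl hl2 hρ
  exact ⟨x, y, hy, h⟩

/-- **Hasse-Davenport** for odd primes, from Stickelberger's theorem. -/
theorem hdOdd_of_stickLight (hS : H766.KGV.StickLight) : HDOdd := hdOdd (hdOddLocal hS)

end Cfsg.Agent.H774.KGV
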