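import Mathlib

/-!
# A congruence modulo a prime `l` for products of `l` sums

`prod_sum_congr`: if `r x ^ l = 1` for all `x`, then
`∏ i < l, ∑ x, a x * r x ^ i ≡ ∑ x, a x ^ l` modulo `l` (`l` an odd prime).
The cyclic group of order `l` acts on the families `(x_i)`; the nonconstant families have sums over
the orbits divisible by `l`.
-/

set_option autoImplicit false

namespace Cfsg.Agent.H774.KGV

open Finset

/-- `z` is `l` times an algebraic integer. -/
def Dv (l : ℕ) (z : ℂ) : Prop := ∃ w, IsIntegral ℤ w ∧ z = (l : ℂ) * w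

theorem Dv.zero (l : ℕ) : Dv l 0 := ⟨0, isIntegral_zero, by simp⟩

theorem Dv.add {l : ℕ} {z z' : ℂ} (h : Dv l z) (h' : Dv l z') : Dv l (z + z') := by
  obtain ⟨w, hw, rfl⟩ := h
  obtain ⟨w', hw', rfl⟩ := h'
  exact ⟨w + w', hw.add hw', by ring⟩

theorem Dv.neg {l : ℕ} {z : ℂ} (h : Dv l z) : Dv l (-z) := by
  obtain ⟨w, hw, rfl⟩ := h
  exact ⟨-w, hw.neg, by ring⟩

theorem Dv.mul_left {l : ℕ} {z y : ℂ} (hy : IsIntegral ℤ y) (h : Dv l z) : Dv l (y * z) := by
  obtain ⟨w, hw, rfl⟩ := h
  exact ⟨y * w, hy.mul hw, by ring⟩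

theorem Dv.sum {l : ℕ} {ι : Type*} {s : Finset ι} {f : ι → ℂ} (h : ∀ i ∈ s, Dv l (f i)) :
    Dv l (∑ i ∈ s, f i) := by
  classical
  induction s using Finset.induction_on with
  | empty => simpa using Dv.zero l
  | insert a s ha ih =>
    rw [sum_insert ha]
    exact (h a (mem_insert_self a s)).add (ih fun i hi => h i (mem_insert_of_mem hi))

section Shift

variable {K : Type*} {l : ℕ}

/-- Shift of a family indexed by `ZMod l`. -/
def shift (k : ZMod l) (y : ZMod l → K) : ZMod l → K := fun i => y (i + k)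

theorem shift_zero (y : ZMod l → K) : shift 0 y = y := by
  funext i
  simp [shift]

theorem shift_shift (k k' : ZMod l) (y : ZMod l → K) : shift k (shift k' y) = shift (k + k') y := by
  funext i
  simp only [shift, add_assoc]

/-- The equivalence relation of having the same orbit under shifts. -/
def shiftSetoid (K : Type*) (l : ℕ) : Setoid (ZMod l → K) where
  r y z := ∃ k, z = shift k y
  iseqv :=
    { refl := fun y => ⟨0, (shift_zero y).symm⟩
      symm := fun {y z} ⟨k, hk⟩ => ⟨-k, by rw [hk, shift_shift, neg_add_cancel, shift_zero]⟩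
      trans := fun {x y z} ⟨k, hk⟩ ⟨k', hk'⟩ => ⟨k' + k, by rw [hk', hk, shift_shift]⟩ }

theorem const_of_shift [Fact l.Prime] {d : ZMod l} (hd : d ≠ 0) {y : ZMod l → K}
    (h : shift d y = y) (i : ZMod l) : y i = y 0 := by
  have h1 : ∀ n : ℕ, y ((n : ZMod l) * d) = y 0 := by
    intro n
    induction n with
    | zero => simp
    | succ n ih =>
      have h2 := congrFun h ((n : ZMod l) * d)
      rw [shift] at h2
      rw [← ih, ← h2]
      congr 1
      push_cast
      ring
  have h2 := h1 (i / d).val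
  rwa [ZMod.natCast_zmod_val, div_mul_cancel₀ _ hd] at h2

theorem shift_injective [Fact l.Prime] {y : ZMod l → K} (hy : ¬ ∀ i, y i = y 0) :
    Function.Injective (fun k : ZMod l => shift k y) := by
  intro k k' h
  by_contra hne
  refine hy (const_of_shift (sub_ne_zero.2 hne) ?_)
  funext i
  have h1 := congrFun h (i - k')
  simp only [shift] at h1 ⊢
  rw [sub_add_cancel] at h1
  rw [← h1]
  congr 1
  ring

/-- Only the constant families count modulo `l`. -/
theorem dvd_sum_sub [Fact l.Prime] [Fintype K] (F : (ZMod l → K) → ℂ)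
    (hF : ∀ y, Dv l (∑ k, F (shift k y))) :
    Dv l (∑ y, F y - ∑ x : K, F fun _ => x) := by
  classical
  let C : Finset (ZMod l → K) := univ.filter fun y => ∀ i, y i = y 0
  have h1 : ∑ y, F y = ∑ y ∈ C, F y + ∑ y ∈ univ.filter (fun y : ZMod l → K => ¬ ∀ i, y i = y 0),
      F y := (sum_filter_add_sum_filter_not univ _ F).symm
  have h2 : ∑ y ∈ C, F y = ∑ x : K, F fun _ => x := by
    symm
    refine sum_bij (fun x _ => fun _ => x) ?_ ?_ ?_ ?_
    · intro x _
      simp [C]
    · intro x _ x' _ h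
      exact congrFun h 0
    · intro y hy
      refine ⟨y 0, mem_univ _, ?_⟩
      funext i
      exact ((mem_filter.1 hy).2 i).symm
    · intro x _
      rfl
  rw [h1, h2, add_sub_cancel_left]
  rw [← sum_fiberwise_of_maps_to (g := fun y => (Quotient.mk (shiftSetoid K l) y))
    (t := (univ.filter (fun y : ZMod l → K => ¬ ∀ i, y i = y 0)).image
      fun y => (Quotient.mk (shiftSetoid K l) y)) (fun y hy => mem_image_of_mem _ hy)]
  refine Dv.sum fun Q hQ => ?_
  obtain ⟨y, hy, rfl⟩ := mem_image.1 hQ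
  have hy' : ¬ ∀ i, y i = y 0 := (mem_filter.1 hy).2
  have h3 : ((univ.filter (fun y : ZMod l → K => ¬ ∀ i, y i = y 0)).filter
      fun z => (Quotient.mk (shiftSetoid K l) z) = Quotient.mk (shiftSetoid K l) y) =
      univ.image fun k => shift k y := by
    ext z
    simp only [mem_filter, mem_univ, true_and, mem_image]
    constructor
    · rintro ⟨-, hz⟩
      obtain ⟨k, hk⟩ := Quotient.exact hz.symm
      exact ⟨k, hk.symm⟩
    · rintro ⟨k, rfl⟩
      refine ⟨?_, ?_⟩
      · intro h
        apply hy'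
        intro i
        have h4 : ∀ j, y j = y k := by
          intro j
          have := h (j - k)
          simpa [shift] using this
        rw [h4 i, h4 0]
      · exact (Quotient.sound (s := shiftSetoid K l) ⟨k, rfl⟩ : Quotient.mk _ y = _).symm
  rw [h3, sum_image fun k _ k' _ h => shift_injective hy' h]
  exact hF y

end Shift

theorem pow_val_add {l : ℕ} [NeZero l] {z : ℂ} (hz : z ^ l = 1) (i j : ZMod l) :
    z ^ (i + j).val = z ^ i.val * z ^ j.val := by
  rw [ZMod.val_add, ← pow_add]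
  exact (pow_eq_pow_mod _ hz).symm

theorem sum_pow_val {l : ℕ} [NeZero l] (z : ℂ) : ∑ j : ZMod l, z ^ j.val = ∑ i ∈ range l, z ^ i := by
  refine sum_bij (fun j _ => j.val) (fun j _ => mem_range.2 (ZMod.val_lt j)) ?_ ?_ ?_
  · intro i _ j _ h
    exact ZMod.val_injective l h
  · intro i hi
    exact ⟨(i : ZMod l), mem_univ _, ZMod.val_cast_of_lt (mem_range.1 hi)⟩
  · intro j _
    rfl

theorem prod_pow_val {l : ℕ} [NeZero l] (f : ℕ → ℂ) :
    ∏ i ∈ range l, f i = ∏ j : ZMod l, f j.val := by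
  symm
  refine prod_bij (fun j _ => j.val) (fun j _ => mem_range.2 (ZMod.val_lt j)) ?_ ?_ ?_
  · intro i _ j _ h
    exact ZMod.val_injective l h
  · intro i hi
    exact ⟨(i : ZMod l), mem_univ _, ZMod.val_cast_of_lt (mem_range.1 hi)⟩
  · intro j _
    rfl

/-- **The congruence.** -/
theorem prod_sum_congr {K : Type*} [Fintype K] (l : ℕ) (hl : l.Prime) (hl2 : l ≠ 2)
    (a r : K → ℂ) (ha : ∀ x, IsIntegral ℤ (a x)) (hr : ∀ x, r x ^ l = 1) :
    Dv l (∏ i ∈ range l, ∑ x, a x * r x ^ i - ∑ x, a x ^ l) := by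
  classical
  have : Fact l.Prime := ⟨hl⟩
  have hrint : ∀ x, IsIntegral ℤ (r x) := by
    intro x
    refine IsIntegral.of_pow hl.pos ?_
    rw [hr x]
    exact isIntegral_one
  let F : (ZMod l → K) → ℂ := fun y => ∏ i : ZMod l, a (y i) * r (y i) ^ i.val
  have hFint : ∀ y, IsIntegral ℤ (F y) := fun y =>
    IsIntegral.prod _ fun i _ => (ha _).mul ((hrint _).pow _)
  have h1 : ∏ i ∈ range l, ∑ x, a x * r x ^ i = ∑ y, F y := by
    rw [prod_pow_val, prod_univ_sum, Fintype.piFinset_univ]
  have h2 : ∑ x : K, F (fun _ => x) = ∑ x, a x ^ l := by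
    refine sum_congr rfl fun x _ => ?_
    show ∏ i : ZMod l, a x * r x ^ i.val = _
    rw [← prod_pow_val fun i => a x * r x ^ i, prod_mul_distrib, prod_const, card_range,
      prod_pow_eq_pow_sum, Finset.sum_range_id]
    have h3 : l * (l - 1) / 2 = l * ((l - 1) / 2) := by
      refine Nat.mul_div_assoc l ?_
      have h4 := hl.eq_two_or_odd'
      have h5 : Odd l := h4.resolve_left hl2
      obtain ⟨m, hm⟩ := h5
      exact ⟨m, by omega⟩
    rw [h3, pow_mul, hr, one_pow, mul_one]
  rw [h1, ← h2]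
  refine dvd_sum_sub F fun y => ?_
  have hc : (∏ i, r (y i)) ^ l = 1 := by
    rw [← prod_pow]
    exact prod_eq_one fun i _ => hr _
  have h3 : ∀ k : ZMod l, F (shift k y) = F y * (∏ i, r (y i)) ^ (-k).val := by
    intro k
    have h4 : F (shift k y) = ∏ i : ZMod l, a (y i) * r (y i) ^ (i + -k).val := by
      show ∏ i : ZMod l, a (y (i + k)) * r (y (i + k)) ^ i.val = _
      refine Fintype.prod_equiv (Equiv.addRight k) _ _ fun i => ?_
      simp
    rw [h4, ← prod_pow, ← prod_mul_distrib]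
    refine prod_congr rfl fun i _ => ?_
    rw [pow_val_add (hr _)]
    ring
  simp_rw [h3]
  rw [← mul_sum]
  refine Dv.mul_left (hFint y) ?_
  have h5 : ∑ k : ZMod l, (∏ i, r (y i)) ^ (-k).val = ∑ k : ZMod l, (∏ i, r (y i)) ^ k.val :=
    Fintype.sum_equiv (Equiv.neg (ZMod l)) _ _ fun k => rfl
  rw [h5, sum_pow_val]
  by_cases hc1 : ∏ i, r (y i) = 1
  · rw [hc1]
    exact ⟨1, isIntegral_one, by simp⟩
  · have h6 : ∑ i ∈ range l, (∏ i, r (y i)) ^ i = 0 := by
      have h7 := mul_geom_sum (∏ i, r (y i)) l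
      rw [hc, sub_self] at h7
      exact (mul_eq_zero.1 h7).resolve_left (sub_ne_zero.2 hc1)
    rw [h6]
    exact Dv.zero l

end Cfsg.Agent.H774.KGV
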