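import Cfsg.Agent.H774.KGV.OddMain
import Cfsg.Agent.H766.KGV.StickLight

/-!
# The Hasse-Davenport product formula for odd primes
-/

set_option autoImplicit false

namespace Cfsg.Agent.H774.KGV

/-- **Hasse-Davenport product formula** for odd primes. -/
theorem hdOdd_final : H644.KGV.HDOdd := hdOdd_of_stickLight H766.KGV.stickLight

end Cfsg.Agent.H774.KGV
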