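import Cfsg.Agent.H644.KGV.Defs
import Cfsg.Agent.H718.Gal
import Cfsg.Agent.H774.KGV.Cyclic

/-!
# The Hasse-Davenport product formula for odd primes

`hdOdd : HDOddLocal → HDOdd`: from the local statement (the quotient `u` of both sides is integral
at the places over `p`) to the formula: `u` is an algebraic integer, `u ≡ 1` modulo `l`, and all
conjugates of `(u - 1) / l` have absolute value `< 1`, so `u = 1`.
-/

set_option autoImplicit false

namespace Cfsg.Agent.H774.KGV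

open Finset Cfsg.Agent.H644.KGV

/-- The local statement (task NT3a2) at the places over `p`. -/
def HDOddLocal : Prop := ∀ (K : Type) [Field K] [Fintype K] (χ ρ : MulChar K ℂ) (ψ : AddChar K ℂ)
  (ℓ : ℕ), ψ ≠ 1 → ℓ.Prime → ℓ ≠ 2 → orderOf ρ = ℓ →
  ∀ M : Ideal (integralClosure ℤ ℂ), M.IsMaximal → ((ringChar K : ℕ) : integralClosure ℤ ℂ) ∈ M →
    ∃ x y : integralClosure ℤ ℂ, y ∉ M ∧
      (y : ℂ) * ∏ i ∈ range ℓ, gaussSum (χ * ρ ^ i) ψ =
        (x : ℂ) * (gaussSum (χ ^ ℓ) (ψ.mulShift (ℓ : K)) *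
          (Fintype.card K : ℂ) ^ ((ℓ - 1) / 2))

section Basic

variable {K : Type*} [Field K] [Fintype K]

theorem mulChar_pow (χ : MulChar K ℂ) {x : K} (hx : x ≠ 0) : χ x ^ (Fintype.card K - 1) = 1 := by
  rw [← map_pow, FiniteField.pow_card_sub_one_eq_one x hx, map_one]

omit [Fintype K] in
theorem addChar_pow (ψ : AddChar K ℂ) (x : K) : ψ x ^ ringChar K = 1 := by
  rw [← AddChar.map_nsmul_eq_pow, nsmul_eq_mul, ringChar.Nat.cast_ringChar, zero_mul,
    AddChar.map_zero_eq_one]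

theorem ringChar_prime : (ringChar K).Prime := by
  obtain ⟨n, hp, -⟩ := FiniteField.card K (ringChar K)
  exact hp

theorem mulChar_isIntegral (χ : MulChar K ℂ) (x : K) : IsIntegral ℤ (χ x) := by
  by_cases hx : x = 0
  · rw [hx, MulChar.map_zero]
    exact isIntegral_zero
  · refine IsIntegral.of_pow (Nat.sub_pos_of_lt (Fintype.one_lt_card (α := K))) ?_
    rw [mulChar_pow χ hx]
    exact isIntegral_one

theorem addChar_isIntegral (ψ : AddChar K ℂ) (x : K) : IsIntegral ℤ (ψ x) := by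
  refine IsIntegral.of_pow (ringChar_prime (K := K)).pos ?_
  rw [addChar_pow ψ x]
  exact isIntegral_one

theorem gaussSum_isIntegral (χ : MulChar K ℂ) (ψ : AddChar K ℂ) : IsIntegral ℤ (gaussSum χ ψ) :=
  IsIntegral.sum _ fun x _ => (mulChar_isIntegral χ x).mul (addChar_isIntegral ψ x)

theorem map_gaussSum (σ : ℂ →+* ℂ) (χ : MulChar K ℂ) (ψ : AddChar K ℂ) :
    σ (gaussSum χ ψ) = gaussSum (χ.ringHomComp σ) ((σ : ℂ →* ℂ).compAddChar ψ) := by
  unfold gaussSum
  rw [map_sum]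
  refine Finset.sum_congr rfl (fun x _ => ?_)
  rw [map_mul]
  rfl

theorem norm_sq_gaussSum {χ : MulChar K ℂ} (hχ : χ ≠ 1) {ψ : AddChar K ℂ} (hψ : ψ ≠ 1) :
    ‖gaussSum χ ψ‖ ^ 2 = Fintype.card K := by
  have h1 := gaussSum_mul_gaussSum_eq_card hχ (AddChar.IsPrimitive.of_ne_one hψ)
  rw [← star_gaussSum_eq] at h1
  have h2 : (gaussSum χ ψ) * star (gaussSum χ ψ) = ((‖gaussSum χ ψ‖ ^ 2 : ℝ) : ℂ) := by
    rw [← starRingEnd_apply, Complex.mul_conj, Complex.normSq_eq_norm_sq]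
  rw [h2] at h1
  exact_mod_cast h1

theorem norm_sq_gaussSum_one {ψ : AddChar K ℂ} (hψ : ψ ≠ 1) :
    ‖gaussSum (1 : MulChar K ℂ) ψ‖ ^ 2 = 1 := by
  rw [gaussSum_one_left hψ]
  simp

theorem gaussSum_mem_Cyc {n : ℕ} (h1 : ringChar K ∣ n) (h2 : Fintype.card K - 1 ∣ n)
    (χ : MulChar K ℂ) (ψ : AddChar K ℂ) : gaussSum χ ψ ∈ H718.Cyc n := by
  refine sum_mem fun x _ => mul_mem ?_ ?_
  · by_cases hx : x = 0
    · rw [hx, MulChar.map_zero]
      exact zero_mem _
    · apply H718.mem_Cyc_of_pow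
      obtain ⟨k, rfl⟩ := h2
      rw [pow_mul, mulChar_pow χ hx, one_pow]
  · apply H718.mem_Cyc_of_pow
    obtain ⟨k, rfl⟩ := h1
    rw [pow_mul, addChar_pow ψ x, one_pow]

/-- The `l`-torsion of the group of multiplicative characters is cyclic. -/
theorem exists_eq_pow {l : ℕ} (hl : l.Prime) {χ ρ : MulChar K ℂ} (hρ : orderOf ρ = l)
    (hχ : χ ^ l = 1) : ∃ j < l, χ = ρ ^ j := by
  obtain ⟨g, hg⟩ := IsCyclic.exists_generator (α := Kˣ)
  have h1 : IsPrimitiveRoot (ρ g) l := by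
    constructor
    · rw [← MulChar.pow_apply_coe, ← hρ, pow_orderOf_eq_one, MulChar.one_apply_coe]
    · intro m hm
      rw [← hρ]
      apply orderOf_dvd_of_pow_eq_one
      rw [MulChar.eq_iff hg, MulChar.pow_apply_coe, hm, MulChar.one_apply_coe]
  have h2 : χ g ^ l = 1 := by
    rw [← MulChar.pow_apply_coe, hχ, MulChar.one_apply_coe]
  have : NeZero l := ⟨hl.ne_zero⟩
  obtain ⟨j, hj, h3⟩ := h1.eq_pow_of_pow_eq_one h2
  exact ⟨j, hj, by rw [MulChar.eq_iff hg, MulChar.pow_apply_coe, h3]⟩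

theorem norm_sq_prod {l : ℕ} (hl : l.Prime) (χ : MulChar K ℂ) {ρ : MulChar K ℂ}
    (hρ : orderOf ρ = l) {ψ ψ' : AddChar K ℂ} (hψ : ψ ≠ 1) (hψ' : ψ' ≠ 1) :
    ‖∏ i ∈ range l, gaussSum (χ * ρ ^ i) ψ‖ ^ 2 =
      ‖gaussSum (χ ^ l) ψ'‖ ^ 2 * (Fintype.card K : ℝ) ^ (l - 1) := by
  classical
  rw [norm_prod, ← prod_pow]
  have hρl : ρ ^ l = 1 := hρ ▸ pow_orderOf_eq_one ρ
  by_cases hχ : χ ^ l = 1
  · obtain ⟨j, hj, h1⟩ := exists_eq_pow hl (χ := χ⁻¹) hρ (by rw [inv_pow, hχ, inv_one])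
    rw [hχ, norm_sq_gaussSum_one hψ', one_mul, ← mul_prod_erase _ _ (mem_range.2 hj), ← h1,
      mul_inv_cancel, norm_sq_gaussSum_one hψ, one_mul]
    have h2 : ∀ i ∈ (range l).erase j, ‖gaussSum (χ * ρ ^ i) ψ‖ ^ 2 = Fintype.card K := by
      intro i hi
      rw [mem_erase, mem_range] at hi
      refine norm_sq_gaussSum (fun h => hi.1 ?_) hψ
      have h3 : ρ ^ i = ρ ^ j := by
        rw [← h1]
        exact eq_inv_of_mul_eq_one_right h
      exact pow_injOn_Iio_orderOf (by simpa [hρ] using hi.2) (by simpa [hρ] using hj) h3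
    rw [prod_congr rfl h2, prod_const, card_erase_of_mem (mem_range.2 hj), card_range]
  · have h2 : ∀ i ∈ range l, ‖gaussSum (χ * ρ ^ i) ψ‖ ^ 2 = Fintype.card K := by
      intro i _
      refine norm_sq_gaussSum (fun h => hχ ?_) hψ
      have h3 : (χ * ρ ^ i) ^ l = 1 := by rw [h, one_pow]
      rwa [mul_pow, ← pow_mul, mul_comm i, pow_mul, hρl, one_pow, mul_one] at h3
    rw [prod_congr rfl h2, prod_const, card_range, norm_sq_gaussSum hχ hψ', ← pow_succ']
    congr 1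
    have := hl.one_lt
    omega

end Basic

/-- A complex number that is integral at every maximal ideal is an algebraic integer. -/
theorem isIntegral_of_local {u : ℂ} (h : ∀ M : Ideal (integralClosure ℤ ℂ), M.IsMaximal →
    ∃ y : integralClosure ℤ ℂ, y ∉ M ∧ IsIntegral ℤ ((y : ℂ) * u)) : IsIntegral ℤ u := by
  let I : Ideal (integralClosure ℤ ℂ) :=
    { carrier := {y | IsIntegral ℤ ((y : ℂ) * u)}
      zero_mem' := by simp [isIntegral_zero]
      add_mem' := by
        intro a b ha hb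
        show IsIntegral ℤ (((a + b : integralClosure ℤ ℂ) : ℂ) * u)
        have : ((a + b : integralClosure ℤ ℂ) : ℂ) * u = a * u + b * u := by
          push_cast
          ring
        rw [this]
        exact IsIntegral.add ha hb
      smul_mem' := by
        intro c a ha
        show IsIntegral ℤ (((c • a : integralClosure ℤ ℂ) : ℂ) * u)
        have : ((c • a : integralClosure ℤ ℂ) : ℂ) * u = (c : ℂ) * (a * u) := by
          rw [smul_eq_mul]
          push_cast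
          ring
        rw [this]
        exact IsIntegral.mul c.2 ha }
  have hI : I = ⊤ := by
    by_contra hne
    obtain ⟨M, hM, hIM⟩ := Ideal.exists_le_maximal I hne
    obtain ⟨y, hy, hyu⟩ := h M hM
    exact hy (hIM hyu)
  have h1 : (1 : integralClosure ℤ ℂ) ∈ I := hI ▸ Submodule.mem_top
  have h2 : IsIntegral ℤ (((1 : integralClosure ℤ ℂ) : ℂ) * u) := h1
  simpa using h2

/-- An algebraic number `v` with `m v` and `n v` integral, `m` and `n` coprime, is integral. -/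
theorem isIntegral_of_coprime {m n : ℕ} (h : m.Coprime n) {v : ℂ}
    (hm : IsIntegral ℤ ((m : ℂ) * v)) (hn : IsIntegral ℤ ((n : ℂ) * v)) : IsIntegral ℤ v := by
  have h1 := Nat.gcd_eq_gcd_ab m n
  rw [h, Nat.cast_one] at h1
  have h2 : v = ((m.gcdA n : ℤ) : ℂ) * ((m : ℂ) * v) + ((m.gcdB n : ℤ) : ℂ) * ((n : ℂ) * v) := by
    have h3 : (1 : ℂ) = (m : ℂ) * ((m.gcdA n : ℤ) : ℂ) + (n : ℂ) * ((m.gcdB n : ℤ) : ℂ) := by
      exact_mod_cast congrArg (Int.cast : ℤ → ℂ) h1
    calc v = 1 * v := (one_mul v).symm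
      _ = _ := by
        rw [h3]
        ring
  rw [h2]
  exact ((isIntegral_algebraMap (R := ℤ) (x := m.gcdA n)).mul hm).add
    ((isIntegral_algebraMap (R := ℤ) (x := m.gcdB n)).mul hn)

/-- An algebraic integer in a cyclotomic field all of whose conjugates are `< 1` is zero. -/
theorem eq_zero_of_conj {n : ℕ} (hn : n ≠ 0) {v : ℂ} (hv : IsIntegral ℤ v) (hvn : v ∈ H718.Cyc n)
    (h : ∀ σ : ℂ ≃+* ℂ, ‖σ v‖ < 1) : v = 0 := by
  by_contra hne
  obtain ⟨ι, _, _, σ, hσ⟩ := H718.exists_galois_avg n hn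
  have h1 := hσ v hv hvn hne
  have h2 : ∑ i, ‖σ i v‖ ^ 2 < ∑ _i : ι, (1 : ℝ) := by
    refine sum_lt_sum_of_nonempty univ_nonempty fun i _ => ?_
    have := h (σ i)
    have h0 := norm_nonneg (σ i v)
    nlinarith
  rw [sum_const, card_univ, nsmul_eq_mul, mul_one] at h2
  linarith

section Main

variable {K : Type} [Field K] [Fintype K]

theorem exists_pow_norm (χ : MulChar K ℂ) {ψ : AddChar K ℂ} (hψ : ψ ≠ 1) (m : ℕ) :
    ∃ n, (-gaussSum χ ψ * (Fintype.card K : ℂ) ^ m) *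
      star (-gaussSum χ ψ * (Fintype.card K : ℂ) ^ m) = ((Fintype.card K : ℕ) : ℂ) ^ n := by
  have h1 : ∀ z : ℂ, z * star z = ((‖z‖ ^ 2 : ℝ) : ℂ) := fun z => by
    rw [← starRingEnd_apply, Complex.mul_conj, Complex.normSq_eq_norm_sq]
  rw [h1, norm_mul, norm_neg, mul_pow, norm_pow, Complex.norm_natCast, ← pow_mul]
  by_cases hχ : χ = 1
  · refine ⟨m * 2, ?_⟩
    rw [hχ, norm_sq_gaussSum_one hψ]
    push_cast
    ring
  · refine ⟨m * 2 + 1, ?_⟩
    rw [norm_sq_gaussSum hχ hψ]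
    push_cast
    ring

/-- The left hand side. -/
noncomputable def NN (l : ℕ) (χ ρ : MulChar K ℂ) (ψ : AddChar K ℂ) : ℂ :=
  ∏ i ∈ range l, (-gaussSum (χ * ρ ^ i) ψ)

/-- The right hand side. -/
noncomputable def DD (l : ℕ) (χ : MulChar K ℂ) (ψ : AddChar K ℂ) : ℂ :=
  -gaussSum (χ ^ l) (ψ.mulShift (l : K)) * (Fintype.card K : ℂ) ^ ((l - 1) / 2)

theorem map_NN (σ : ℂ →+* ℂ) (l : ℕ) (χ ρ : MulChar K ℂ) (ψ : AddChar K ℂ) :
    σ (NN l χ ρ ψ) =
      NN l (χ.ringHomComp σ) (ρ.ringHomComp σ) ((σ : ℂ →* ℂ).compAddChar ψ) := by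
  unfold NN
  rw [map_prod]
  refine prod_congr rfl fun i _ => ?_
  rw [map_neg, map_gaussSum, MulChar.ringHomComp_mul, MulChar.ringHomComp_pow]

theorem map_DD (σ : ℂ →+* ℂ) (l : ℕ) (χ : MulChar K ℂ) (ψ : AddChar K ℂ) :
    σ (DD l χ ψ) = DD l (χ.ringHomComp σ) ((σ : ℂ →* ℂ).compAddChar ψ) := by
  unfold DD
  rw [map_mul, map_neg, map_gaussSum, map_pow, map_natCast, MulChar.ringHomComp_pow]
  rfl

theorem l_dvd {l : ℕ} {ρ : MulChar K ℂ} (hρ : orderOf ρ = l) : l ∣ Fintype.card K - 1 := by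
  classical
  rw [← hρ, ← Fintype.card_units]
  exact orderOf_dvd_of_pow_eq_one ρ.pow_card_eq_one

theorem l_ne_zero {l : ℕ} (h : l ∣ Fintype.card K - 1) : (l : K) ≠ 0 := by
  intro h0
  have h1 : ringChar K ∣ l := (ringChar.spec K l).1 h0
  have h2 : ringChar K ∣ Fintype.card K := by
    rw [← ringChar.spec]
    exact Nat.cast_card_eq_zero K
  have h3 : ringChar K ∣ 1 := by
    have h4 := (Nat.dvd_sub_iff_right (Fintype.card_pos (α := K)) h2).1 (h1.trans h)
    exact h4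
  exact (ringChar_prime (K := K)).one_lt.ne' (Nat.dvd_one.1 h3)

omit [Fintype K] in
theorem mulShift_ne_one {ψ : AddChar K ℂ} (hψ : ψ ≠ 1) {a : K} (ha : a ≠ 0) :
    ψ.mulShift a ≠ 1 := AddChar.IsPrimitive.of_ne_one hψ ha

theorem norm_eq {l : ℕ} (hl : l.Prime) (hl2 : l ≠ 2) (χ : MulChar K ℂ) {ρ : MulChar K ℂ}
    (hρ : orderOf ρ = l) {ψ : AddChar K ℂ} (hψ : ψ ≠ 1) : ‖NN l χ ρ ψ‖ = ‖DD l χ ψ‖ := by
  have h1 : ‖NN l χ ρ ψ‖ = ‖∏ i ∈ range l, gaussSum (χ * ρ ^ i) ψ‖ := by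
    unfold NN
    simp only [norm_prod, norm_neg]
  have h2 : ‖NN l χ ρ ψ‖ ^ 2 = ‖DD l χ ψ‖ ^ 2 := by
    rw [h1, norm_sq_prod hl χ hρ hψ (mulShift_ne_one hψ (l_ne_zero (l_dvd hρ)))]
    unfold DD
    rw [norm_mul, norm_neg, mul_pow, norm_pow, Complex.norm_natCast, ← pow_mul]
    obtain ⟨m, hm⟩ := hl.eq_two_or_odd'.resolve_left hl2
    congr 2
    omega
  exact (sq_eq_sq₀ (norm_nonneg _) (norm_nonneg _)).1 h2

theorem DD_ne_zero {l : ℕ} (h : l ∣ Fintype.card K - 1) (χ : MulChar K ℂ)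
    {ψ : AddChar K ℂ} (hψ : ψ ≠ 1) : DD l χ ψ ≠ 0 := by
  obtain ⟨n, hn⟩ := exists_pow_norm (χ ^ l) (mulShift_ne_one hψ (l_ne_zero h)) ((l - 1) / 2)
  intro h0
  unfold DD at h0
  rw [h0, zero_mul] at hn
  have h1 : ((Fintype.card K : ℕ) : ℂ) ≠ 0 := Nat.cast_ne_zero.2 Fintype.card_ne_zero
  exact pow_ne_zero n h1 hn.symm

theorem DD_isIntegral (l : ℕ) (χ : MulChar K ℂ) (ψ : AddChar K ℂ) : IsIntegral ℤ (DD l χ ψ) :=
  (gaussSum_isIntegral _ _).neg.mul ((isIntegral_algebraMap (R := ℤ) (x := Fintype.card K)).pow _)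

theorem NN_isIntegral (l : ℕ) (χ ρ : MulChar K ℂ) (ψ : AddChar K ℂ) :
    IsIntegral ℤ (NN l χ ρ ψ) :=
  IsIntegral.prod _ fun _ _ => (gaussSum_isIntegral _ _).neg

/-- The congruence modulo `l`. -/
theorem congr_NN {l : ℕ} (hl : l.Prime) (hl2 : l ≠ 2) (χ : MulChar K ℂ) {ρ : MulChar K ℂ}
    (hρ : orderOf ρ = l) (ψ : AddChar K ℂ) : Dv l (NN l χ ρ ψ - DD l χ ψ) := by
  classical
  obtain ⟨k, hk⟩ := hl.eq_two_or_odd'.resolve_left hl2
  have hρl : ρ ^ l = 1 := hρ ▸ pow_orderOf_eq_one ρ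
  -- the right hand side
  have h1 : Dv l (-gaussSum (χ ^ l) (ψ.mulShift (l : K)) - DD l χ ψ) := by
    obtain ⟨t, ht⟩ := (Nat.modEq_iff_dvd' (Nat.one_le_iff_ne_zero.2
      (pow_ne_zero ((l - 1) / 2) (Fintype.card_ne_zero (α := K))))).1
      (show 1 ≡ Fintype.card K ^ ((l - 1) / 2) [MOD l] by
        have := (Nat.modEq_iff_dvd' (Fintype.card_pos (α := K))).2 (l_dvd hρ)
        simpa using this.pow ((l - 1) / 2))
    have h2 : (Fintype.card K) ^ ((l - 1) / 2) = 1 + l * t := by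
      have : 0 < (Fintype.card K) ^ ((l - 1) / 2) := pow_pos Fintype.card_pos _
      omega
    refine ⟨gaussSum (χ ^ l) (ψ.mulShift (l : K)) * t, (gaussSum_isIntegral _ _).mul
      (isIntegral_algebraMap (R := ℤ) (x := (t : ℤ))), ?_⟩
    unfold DD
    rw [show ((Fintype.card K : ℂ)) ^ ((l - 1) / 2) = 1 + l * t by exact_mod_cast h2]
    ring
  -- the left hand side
  let a : K → ℂ := fun x => -(χ x * ψ x)
  let r : K → ℂ := fun x => if x = 0 then 1 else ρ x
  have ha : ∀ x, IsIntegral ℤ (a x) := fun x =>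
    ((mulChar_isIntegral χ x).mul (addChar_isIntegral ψ x)).neg
  have hr : ∀ x, r x ^ l = 1 := by
    intro x
    by_cases hx : x = 0
    · simp [r, hx]
    · simp only [r, hx, if_false]
      rw [← MulChar.pow_apply' ρ hl.ne_zero, hρl, MulChar.one_apply (isUnit_iff_ne_zero.2 hx)]
  have h2 := prod_sum_congr l hl hl2 a r ha hr
  have h3 : ∏ i ∈ range l, ∑ x, a x * r x ^ i = NN l χ ρ ψ := by
    refine prod_congr rfl fun i _ => ?_
    unfold gaussSum
    rw [← sum_neg_distrib]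
    refine sum_congr rfl fun x _ => ?_
    by_cases hx : x = 0
    · subst hx
      simp only [a, MulChar.map_zero, zero_mul, neg_zero]
    · have h4 : (χ * ρ ^ i) x = χ x * ρ x ^ i := by
        rw [MulChar.mul_apply]
        congr 1
        exact MulChar.pow_apply_coe ρ i (Units.mk0 x hx)
      rw [h4]
      simp only [a, r, hx, if_false]
      ring
  have h4 : ∑ x, a x ^ l = -gaussSum (χ ^ l) (ψ.mulShift (l : K)) := by
    unfold gaussSum
    rw [← sum_neg_distrib]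
    refine sum_congr rfl fun x _ => ?_
    have h5 : ψ.mulShift (l : K) x = ψ x ^ l := by
      rw [AddChar.mulShift_apply, ← nsmul_eq_mul, AddChar.map_nsmul_eq_pow]
    rw [h5, MulChar.pow_apply' χ hl.ne_zero]
    simp only [a]
    rw [neg_pow, Odd.neg_one_pow ⟨k, hk⟩, mul_pow]
    ring
  rw [h3, h4] at h2
  have h5 := h2.add h1
  rwa [sub_add_sub_cancel] at h5

/-- **The Hasse-Davenport product formula for odd primes.** -/
theorem hdOdd (h : HDOddLocal) : HDOdd := by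
  intro K _ _ χ ρ ψ l hψ hl hl2 hρ
  show NN l χ ρ ψ = DD l χ ψ
  have hlq := l_dvd hρ
  have hl0 := l_ne_zero hlq
  have hψ' := mulShift_ne_one hψ hl0
  have hD := DD_ne_zero hlq χ hψ
  have hDint := DD_isIntegral l χ ψ
  have hNint := NN_isIntegral l χ ρ ψ
  have hq1 : 1 < Fintype.card K := Fintype.one_lt_card
  obtain ⟨n, hn⟩ := exists_pow_norm (χ ^ l) hψ' ((l - 1) / 2)
  have hn' : DD l χ ψ * star (DD l χ ψ) = ((Fintype.card K : ℕ) : ℂ) ^ n := hn
  have hDs : IsIntegral ℤ (star (DD l χ ψ)) := by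
    have := map_DD (starRingEnd ℂ) l χ ψ
    rw [starRingEnd_apply] at this
    rw [this]
    exact DD_isIntegral _ _ _
  -- the quotient
  set u : ℂ := NN l χ ρ ψ / DD l χ ψ with hu
  have hDu : DD l χ ψ * u = NN l χ ρ ψ := by
    rw [hu]
    field_simp
  -- `u` is an algebraic integer
  have huint : IsIntegral ℤ u := by
    refine isIntegral_of_local fun M hM => ?_
    by_cases hp : ((ringChar K : ℕ) : integralClosure ℤ ℂ) ∈ M
    · obtain ⟨x, y, hy, hxy⟩ := h K χ ρ ψ l hψ hl hl2 hρ M hM hp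
      refine ⟨y, hy, ?_⟩
      have h1 : (y : ℂ) * u = x := by
        apply mul_left_cancel₀ hD
        have h2 : NN l χ ρ ψ = -∏ i ∈ range l, gaussSum (χ * ρ ^ i) ψ := by
          unfold NN
          rw [prod_neg, card_range, (hl.eq_two_or_odd'.resolve_left hl2).neg_one_pow, neg_one_mul]
        calc DD l χ ψ * (y * u) = y * (DD l χ ψ * u) := by ring
          _ = DD l χ ψ * x := by
            rw [hDu, h2, mul_neg, hxy]
            unfold DD
            ring
      rw [h1]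
      exact x.2
    · obtain ⟨m, -, hm⟩ := FiniteField.card K (ringChar K)
      have hpM : ((ringChar K : ℕ) : integralClosure ℤ ℂ) ^ ((m : ℕ) * n) ∉ M := fun h1 =>
        hp (hM.isPrime.mem_of_pow_mem _ h1)
      refine ⟨_, hpM, ?_⟩
      have h1 : ((((ringChar K : ℕ) : integralClosure ℤ ℂ) ^ ((m : ℕ) * n) :
          integralClosure ℤ ℂ) : ℂ) * u = star (DD l χ ψ) * NN l χ ρ ψ := by
        rw [← hDu, ← mul_assoc, mul_comm (star _), hn', hm]
        push_cast
        rw [pow_mul]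
      rw [h1]
      exact hDs.mul hNint
  -- `v = (u - 1) / l` is an algebraic integer
  set v : ℂ := (u - 1) / l with hv
  have hlC : (l : ℂ) ≠ 0 := Nat.cast_ne_zero.2 hl.ne_zero
  have hlv : (l : ℂ) * v = u - 1 := by
    rw [hv]
    field_simp
  have hvint : IsIntegral ℤ v := by
    refine isIntegral_of_coprime (m := l) (n := Fintype.card K ^ n) ?_ ?_ ?_
    · refine Nat.Coprime.pow_right _ ?_
      have h1 : Nat.Coprime (Fintype.card K - 1) (Fintype.card K) := by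
        have h2 := (Nat.coprime_self_add_right (m := Fintype.card K - 1) (n := 1)).2
          (Nat.coprime_one_right _)
        rwa [Nat.sub_add_cancel hq1.le] at h2
      exact Nat.Coprime.coprime_dvd_left hlq h1
    · rw [hlv]
      exact huint.sub isIntegral_one
    · obtain ⟨w, hw, hw'⟩ := congr_NN hl hl2 χ hρ ψ
      have h1 : DD l χ ψ * v = w := by
        apply mul_left_cancel₀ hlC
        rw [← hw', ← hDu]
        calc (l : ℂ) * (DD l χ ψ * v) = DD l χ ψ * (l * v) := by ring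
          _ = _ := by
            rw [hlv]
            ring
      have h2 : ((Fintype.card K ^ n : ℕ) : ℂ) * v = star (DD l χ ψ) * w := by
        rw [← h1, ← mul_assoc, mul_comm (star _), hn']
        push_cast
        rfl
      rw [h2]
      exact hDs.mul hw
  -- `v` lies in a cyclotomic field
  have hvn : v ∈ H718.Cyc (ringChar K * (Fintype.card K - 1)) := by
    have hg : ∀ (χ : MulChar K ℂ) (ψ : AddChar K ℂ),
        gaussSum χ ψ ∈ H718.Cyc (ringChar K * (Fintype.card K - 1)) := fun χ ψ =>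
      gaussSum_mem_Cyc (dvd_mul_right _ _) (dvd_mul_left _ _) χ ψ
    have h1 : NN l χ ρ ψ ∈ H718.Cyc (ringChar K * (Fintype.card K - 1)) :=
      prod_mem fun i _ => neg_mem (hg _ _)
    have h2 : DD l χ ψ ∈ H718.Cyc (ringChar K * (Fintype.card K - 1)) :=
      mul_mem (neg_mem (hg _ _)) (pow_mem (natCast_mem _ _) _)
    exact div_mem (sub_mem (div_mem h1 h2) (one_mem _)) (natCast_mem _ _)
  -- all conjugates of `u` have absolute value `1`
  have hconj : ∀ σ : ℂ ≃+* ℂ, ‖σ v‖ < 1 := by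
    intro σ
    have h1 : ‖σ u‖ = 1 := by
      have h2 : σ u = (σ : ℂ →+* ℂ) (NN l χ ρ ψ) / (σ : ℂ →+* ℂ) (DD l χ ψ) := by
        rw [hu, map_div₀]
        rfl
      rw [h2, map_NN, map_DD, norm_div]
      have h3 : orderOf (ρ.ringHomComp (σ : ℂ →+* ℂ)) = l := by
        have : Fact l.Prime := ⟨hl⟩
        refine orderOf_eq_prime ?_ ?_
        · have h5 := MulChar.ringHomComp_pow ρ (σ : ℂ →+* ℂ) l
          have h6 : ρ ^ l = 1 := hρ ▸ pow_orderOf_eq_one ρ
          rw [h5, h6, MulChar.ringHomComp_one]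
        · rw [MulChar.ringHomComp_ne_one_iff (RingHom.injective _)]
          intro h4
          rw [h4, orderOf_one] at hρ
          exact hl.one_lt.ne hρ
      have h4 : ((σ : ℂ →+* ℂ) : ℂ →* ℂ).compAddChar ψ ≠ 1 := by
        intro h5
        apply hψ
        ext x
        have h6 := DFunLike.congr_fun h5 x
        have h7 : σ (ψ x) = 1 := h6
        rw [← map_one σ] at h7
        exact σ.injective h7
      rw [norm_eq hl hl2 _ h3 h4]
      refine div_self (norm_ne_zero_iff.2 (DD_ne_zero hlq _ h4))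
    have h2 : σ v = (σ u - 1) / l := by
      rw [hv, map_div₀, map_sub, map_one, map_natCast]
    rw [h2, norm_div, Complex.norm_natCast, div_lt_one (Nat.cast_pos.2 hl.pos)]
    have h3 : ‖σ u - 1‖ ≤ 2 := by
      refine (norm_sub_le _ _).trans ?_
      rw [h1, norm_one]
      norm_num
    have h4 : (2 : ℝ) < l := by
      have : 2 < l := lt_of_le_of_ne hl.two_le (Ne.symm hl2)
      exact_mod_cast this
    linarith
  have hv0 := eq_zero_of_conj (mul_ne_zero (ringChar_prime (K := K)).ne_zero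
    (Nat.sub_pos_of_lt hq1).ne') hvint hvn hconj
  rw [hv0, mul_zero] at hlv
  rw [← hDu, sub_eq_zero.1 hlv.symm, mul_one]

end Main

end Cfsg.Agent.H774.KGV
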